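import Mathlib
import Cfsg.Agent.Lib.Coprime.Action

/-!
# Fixed points and brackets of an abelian coprime operator group

`fixH H` is the subgroup fixed by `H`, `br H M` is `[M, H]`, and `gen` is generated by the fixed points
of `A` in the subgroups `[C(A₀), A]` with `A / A₀` cyclic.
-/

set_option autoImplicit false
set_option linter.style.haveILetI false

open Subgroup

namespace Cfsg.Agent.Lib.FTDeps.Goldschmidt.Basic

universe u v

variable {A : Type u} {G : Type v} [CommGroup A] [Group G] [MulDistribMulAction A G]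

variable (G) in
/-- The points fixed by `H`. -/
def fixH (H : Subgroup A) : Subgroup G where
  carrier := {x | ∀ a ∈ H, a • x = x}
  one_mem' a _ := smul_one a
  mul_mem' hx hy a ha := by rw [smul_mul', hx a ha, hy a ha]
  inv_mem' hx a ha := by rw [smul_inv', hx a ha]

/-- The bracket `[M, H]`. -/
def br (H : Subgroup A) (M : Subgroup G) : Subgroup G :=
  closure {y | ∃ a ∈ H, ∃ x ∈ M, y = x⁻¹ * a • x}

/-- `A / H` is cyclic. -/
def Cyc (H : Subgroup A) : Prop := ∃ a : A, H ⊔ zpowers a = ⊤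

variable (A G) in
/-- The generated subgroup. -/
def gen : Subgroup G :=
  ⨆ H ∈ {H : Subgroup A | Cyc H}, fixH G (⊤ : Subgroup A) ⊓ br (⊤ : Subgroup A) (fixH G H)

theorem mem_fixH {H : Subgroup A} {x : G} : x ∈ fixH G H ↔ ∀ a ∈ H, a • x = x := Iff.rfl

theorem fixH_anti {H K : Subgroup A} (h : H ≤ K) : fixH G K ≤ fixH G H :=
  fun _ hx a ha => hx a (h ha)

theorem smul_mem_fixH (H : Subgroup A) {x : G} (hx : x ∈ fixH G H) (a : A) : a • x ∈ fixH G H :=
  fun b hb => by rw [← mul_smul, mul_comm, mul_smul, hx b hb]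

theorem br_le {H : Subgroup A} {M : Subgroup G} (hM : ∀ a : A, ∀ x ∈ M, a • x ∈ M) :
    br H M ≤ M := by
  rw [br, closure_le]
  rintro _ ⟨a, _, x, hx, rfl⟩
  exact mul_mem (inv_mem hx) (hM a x hx)

theorem br_mono {H : Subgroup A} {M N : Subgroup G} (h : M ≤ N) : br H M ≤ br H N :=
  closure_mono fun _ ⟨a, ha, x, hx, e⟩ => ⟨a, ha, x, h hx, e⟩

theorem mem_br {H : Subgroup A} {M : Subgroup G} {a : A} (ha : a ∈ H) {x : G} (hx : x ∈ M) :
    x⁻¹ * a • x ∈ br H M :=
  subset_closure ⟨a, ha, x, hx, rfl⟩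

theorem br_invariant {H : Subgroup A} {M : Subgroup G} (hM : ∀ a : A, ∀ x ∈ M, a • x ∈ M) (b : A)
    {y : G} (hy : y ∈ br H M) : b • y ∈ br H M := by
  induction hy using closure_induction with
  | mem z hz =>
    obtain ⟨a, ha, x, hx, rfl⟩ := hz
    refine subset_closure ⟨a, ha, b • x, hM b x hx, ?_⟩
    rw [smul_mul', smul_inv', ← mul_smul, mul_comm b a, mul_smul]
  | one => rw [smul_one]; exact one_mem _
  | mul _ _ _ _ h1 h2 => rw [smul_mul']; exact mul_mem h1 h2
  | inv _ _ h1 => rw [smul_inv']; exact inv_mem h1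

/-- `[M, H]` is normalised by `M`. -/
theorem br_conj_mem {H : Subgroup A} {M : Subgroup G} {w : G} (hw : w ∈ M) {y : G}
    (hy : y ∈ br H M) : w⁻¹ * y * w ∈ br H M := by
  induction hy using closure_induction with
  | mem z hz =>
    obtain ⟨a, ha, x, hx, rfl⟩ := hz
    have h := mul_mem (mem_br ha (mul_mem hx hw)) (inv_mem (mem_br ha hw))
    rw [show w⁻¹ * (x⁻¹ * a • x) * w = (x * w)⁻¹ * a • (x * w) * (w⁻¹ * a • w)⁻¹ by
      rw [smul_mul']; group]
    exact h
  | one => simp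
  | mul a b _ _ h1 h2 =>
    rw [show w⁻¹ * (a * b) * w = (w⁻¹ * a * w) * (w⁻¹ * b * w) by group]; exact mul_mem h1 h2
  | inv a _ h1 =>
    rw [show w⁻¹ * a⁻¹ * w = (w⁻¹ * a * w)⁻¹ by group]; exact inv_mem h1

variable [Finite A] [Finite G]

theorem exists_fixed_in {H : Subgroup A} {N : Subgroup G}
    (hcop : (Nat.card A).Coprime (Nat.card G)) (hN : ∀ a ∈ H, ∀ x ∈ N, a • x ∈ N) {g : G}
    (hg : ∀ a ∈ H, g⁻¹ * a • g ∈ N) : ∃ n ∈ N, g * n ∈ fixH G H := by
  haveI : Group.IsSolvable H := inferInstance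
  obtain ⟨n, hn, h⟩ := Coprime.Action.exists_mul_fixed (A := H) (N := N)
    (fun a x hx => hN a a.2 x hx)
    ((hcop.coprime_dvd_left (card_subgroup_dvd_card H)).coprime_dvd_right
      (card_subgroup_dvd_card N))
    (Or.inl inferInstance) (g := g) (fun a => hg a a.2)
  exact ⟨n, hn, fun a ha => h ⟨a, ha⟩⟩

/-- `M = [M, H] C_M(H)`. -/
theorem exists_fixed_br (hcop : (Nat.card A).Coprime (Nat.card G)) (H : Subgroup A) {M : Subgroup G}
    (hM : ∀ a : A, ∀ x ∈ M, a • x ∈ M) {m : G} (hm : m ∈ M) :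
    ∃ n ∈ br H M, m * n ∈ M ⊓ fixH G H := by
  obtain ⟨n, hn, h⟩ := exists_fixed_in (H := H) (N := br H M) hcop
    (fun a _ x hx => br_invariant hM a hx) (g := m) fun a ha => mem_br ha hm
  exact ⟨n, hn, mem_inf.2 ⟨mul_mem hm (br_le hM hn), h⟩⟩

/-- `[[M, A], A] = [M, A]`. -/
theorem br_br (hcop : (Nat.card A).Coprime (Nat.card G)) {H : Subgroup A} {M : Subgroup G}
    (hM : ∀ a : A, ∀ x ∈ M, a • x ∈ M) : br H (br H M) = br H M := by
  refine le_antisymm (br_mono (br_le hM)) ?_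
  conv_lhs => rw [br]
  rw [closure_le]
  rintro _ ⟨a, ha, x, hx, rfl⟩
  obtain ⟨n, hn, hc⟩ := exists_fixed_br hcop H hM hx
  have h1 := (mem_inf.1 hc).2 a ha
  rw [smul_mul'] at h1
  have h2 : x⁻¹ * a • x = (n⁻¹)⁻¹ * a • n⁻¹ := by
    rw [smul_inv', inv_inv, eq_mul_inv_iff_mul_eq, mul_assoc, h1]
    group
  show x⁻¹ * a • x ∈ br H (br H M)
  rw [h2]
  exact mem_br ha (inv_mem hn)

/-- Generation of `G` by the fixed points of the subgroups with cyclic quotient. -/
theorem iSup_fixH_eq_top (hcop : (Nat.card A).Coprime (Nat.card G)) :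
    (⨆ H ∈ {H : Subgroup A | Cyc H}, fixH G H) = ⊤ := by
  haveI := Coprime.Action.finite_semi (A := A) (G := G)
  haveI : IsMulCommutative (Coprime.Action.actA A G) := ⟨⟨fun x y => Subtype.ext (by
    obtain ⟨a, ha⟩ := x.2
    obtain ⟨b, hb⟩ := y.2
    show (x : Coprime.Action.Semi A G) * y = y * x
    rw [← ha, ← hb, ← map_mul, ← map_mul, mul_comm a b])⟩⟩
  have hgen := Coprime.iSup_centralizer_cyclic_quotient_eq
    (Coprime.Action.actA_le_normalizer_grpG (A := A) (G := G))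
    (by rw [Coprime.Action.card_actA, Coprime.Action.card_grpG]; exact hcop)
  set S := ⨆ H ∈ {H : Subgroup A | Cyc H}, fixH G H
  have hle : Coprime.Action.grpG A G ≤ S.map (Coprime.Action.embG A G) := by
    rw [← hgen]
    refine iSup₂_le ?_
    rintro B ⟨hBA, b, hb, hBb⟩ x hx
    obtain ⟨⟨g, rfl⟩, hg⟩ := mem_inf.mp hx
    obtain ⟨a₀, rfl⟩ := hb
    refine mem_map_of_mem _ (mem_iSup_of_mem (B.comap SemidirectProduct.inr) (mem_iSup_of_mem ?_ ?_))
    · refine ⟨a₀, ?_⟩
      apply Subgroup.map_injective (f := (SemidirectProduct.inr : A →* Coprime.Action.Semi A G))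
        SemidirectProduct.inr_injective
      rw [Subgroup.map_sup, MonoidHom.map_zpowers, map_comap_eq_self hBA, ← MonoidHom.range_eq_map]
      exact hBb
    · intro a ha
      apply SemidirectProduct.inl_injective (φ := MulDistribMulAction.toMulAut A G)
      show Coprime.Action.embG A G (a • g) = Coprime.Action.embG A G g
      rw [Coprime.Action.inl_smul, mem_centralizer_iff.mp hg _ ha]; group
  rw [eq_top_iff]
  intro g _
  exact (mem_map_iff_mem SemidirectProduct.inl_injective).mp (hle ⟨g, rfl⟩)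

/-- If `G = [G, A]` then `G` is generated by the `[C(A₀), A]`. -/
theorem iSup_br_fixH_eq_top (hcop : (Nat.card A).Coprime (Nat.card G))
    (hG : br (⊤ : Subgroup A) (⊤ : Subgroup G) = ⊤) :
    (⨆ H ∈ {H : Subgroup A | Cyc H}, br (⊤ : Subgroup A) (fixH G H)) = ⊤ := by
  set J := ⨆ H ∈ {H : Subgroup A | Cyc H}, br (⊤ : Subgroup A) (fixH G H) with hJ
  have hJinv : ∀ (a : A), J ≤ J.comap (MulDistribMulAction.toMonoidHom G a) := fun a =>
    iSup₂_le fun H hH x hx => mem_iSup_of_mem H (mem_iSup_of_mem hH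
      (br_invariant (fun b y hy => smul_mem_fixH H hy b) a hx))
  have hJn : fixH G (⊤ : Subgroup A) ≤ normalizer (J : Set G) := by
    refine le_normalizer_iff.2 fun w hw k hk => ?_
    have hle : J ≤ J.comap (MulAut.conj w).toMonoidHom :=
      iSup₂_le fun H hH x hx => mem_iSup_of_mem H (mem_iSup_of_mem hH (by
        have := br_conj_mem (inv_mem (fixH_anti (le_top : H ≤ ⊤) hw)) hx
        simpa using this))
    exact hle hk
  have hN : normalizer (J : Set G) = ⊤ := by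
    rw [eq_top_iff, ← iSup_fixH_eq_top (A := A) hcop]
    refine iSup₂_le fun H hH x hx => ?_
    obtain ⟨n, hn, hc⟩ := exists_fixed_br hcop ⊤ (fun b y hy => smul_mem_fixH H hy b) hx
    have : n ∈ J := mem_iSup_of_mem H (mem_iSup_of_mem hH hn)
    have h := mul_mem (hJn (mem_inf.1 hc).2) (inv_mem (le_normalizer this))
    rwa [mul_inv_cancel_right] at h
  haveI : J.Normal := normalizer_eq_top_iff.1 hN
  have hsup : J ⊔ fixH G (⊤ : Subgroup A) = ⊤ := by
    rw [eq_top_iff, ← iSup_fixH_eq_top (A := A) hcop]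
    refine iSup₂_le fun H hH x hx => ?_
    obtain ⟨n, hn, hc⟩ := exists_fixed_br hcop ⊤ (fun b y hy => smul_mem_fixH H hy b) hx
    have : n ∈ J := mem_iSup_of_mem H (mem_iSup_of_mem hH hn)
    have h := mul_mem (mem_sup_right (mem_inf.1 hc).2 : _ ∈ J ⊔ fixH G ⊤)
      (mem_sup_left (inv_mem this))
    rwa [mul_inv_cancel_right] at h
  rw [eq_top_iff, ← hG, br, closure_le]
  rintro _ ⟨a, _, x, _, rfl⟩
  have hx : x ∈ ((J ⊔ fixH G ⊤ : Subgroup G) : Set G) := hsup ▸ mem_top x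
  rw [Subgroup.normal_mul] at hx
  obtain ⟨j, hj, c, hc, rfl⟩ := hx
  show (j * c)⁻¹ * a • (j * c) ∈ J
  rw [smul_mul', (mem_fixH.1 hc) a (mem_top a),
    show (j * c)⁻¹ * (a • j * c) = c⁻¹ * (j⁻¹ * a • j) * (c⁻¹)⁻¹ by group]
  exact Subgroup.Normal.conj_mem inferInstance _ (mul_mem (inv_mem hj) (hJinv a hj)) _

end Cfsg.Agent.Lib.FTDeps.Goldschmidt.Basic
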