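import Mathlib
import Cfsg.Agent.Lib.FTDeps.Goldschmidt.Basic

/-!
# Goldschmidt's generation lemma for solvable groups

If a finite abelian group `A` acts coprimely on a solvable `G = [G, A]`, then `C(A)` is generated by
its intersections with the `[C(A₀), A]`, `A / A₀` cyclic.
-/

set_option autoImplicit false
set_option linter.style.haveILetI false

open Subgroup
open scoped commutatorElement

namespace Cfsg.Agent.Lib.FTDeps.Goldschmidt.Core

open Basic

universe u v

variable {A : Type u} {G : Type v} [CommGroup A] [Group G] [MulDistribMulAction A G]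
variable [Finite A] [Finite G]

omit [Finite A] [Finite G] in
theorem invariant_commutator {M : Subgroup G} (hM : ∀ a : A, ∀ x ∈ M, a • x ∈ M)
    {N : Subgroup G} (hN : ∀ a : A, ∀ x ∈ N, a • x ∈ N) (a : A) {x : G} (hx : x ∈ ⁅M, N⁆) :
    a • x ∈ ⁅M, N⁆ := by
  have h : ⁅M, N⁆ ≤ ⁅M, N⁆.comap (MulDistribMulAction.toMonoidHom G a) := by
    rw [commutator_le]
    intro m hm n hn
    show MulDistribMulAction.toMonoidHom G a ⁅m, n⁆ ∈ ⁅M, N⁆
    rw [map_commutatorElement]
    exact commutator_mem_commutator (hM a m hm) (hN a n hn)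
  exact h hx

omit [Finite A] [Finite G] in
theorem top_invariant (a : A) (x : G) (_ : x ∈ (⊤ : Subgroup G)) : a • x ∈ (⊤ : Subgroup G) :=
  mem_top _

/-- The linear case: the fixed points in `[M, G]` when `[M, G]` is central in `M`. -/
theorem fixed_commutator_le_gen (hcop : (Nat.card A).Coprime (Nat.card G))
    (hG : br (⊤ : Subgroup A) (⊤ : Subgroup G) = ⊤) {M : Subgroup G} [hMn : M.Normal]
    (hM : ∀ a : A, ∀ x ∈ M, a • x ∈ M)
    (hT : ∀ t ∈ ⁅M, (⊤ : Subgroup G)⁆, ∀ m ∈ M, t * m = m * t) :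
    fixH G (⊤ : Subgroup A) ⊓ ⁅M, (⊤ : Subgroup G)⁆ ≤ gen A G := by
  haveI : Fintype A := Fintype.ofFinite A
  set T := ⁅M, (⊤ : Subgroup G)⁆ with hTdef
  have hTM : T ≤ M := commutator_le_left M ⊤
  haveI hTn : T.Normal := inferInstance
  letI : CommGroup T :=
    { (inferInstance : Group T) with
      mul_comm := fun s t => Subtype.ext (hT s s.2 t (hTM t.2)) }
  let act : A → T → T := fun a t => ⟨a • (t : G), invariant_commutator hM top_invariant a t.2⟩
  have act_mul : ∀ a s t, act a (s * t) = act a s * act a t := fun a s t =>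
    Subtype.ext (smul_mul' a (s : G) t)
  let ν : T →* T := MonoidHom.mk' (fun t => ∏ a, act a t) fun s t => by
    simp only [act_mul, Finset.prod_mul_distrib]
  have ν_act : ∀ b t, ν (act b t) = ν t := by
    intro b t
    show ∏ a, act a (act b t) = ∏ a, act a t
    refine Fintype.prod_equiv (Equiv.mulRight b) _ _ fun a => Subtype.ext ?_
    show a • b • (t : G) = (a * b) • (t : G)
    rw [mul_smul]
  have ν_fix : ∀ t : T, (ν t : G) ∈ fixH G (⊤ : Subgroup A) := by
    intro t b _
    have h : act b (∏ a, act a t) = ∏ a, act a t := by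
      let F : T →* T := MonoidHom.mk' (act b) (act_mul b)
      show F (∏ a, act a t) = _
      rw [map_prod]
      refine Fintype.prod_equiv (Equiv.mulLeft b) _ _ fun a => Subtype.ext ?_
      show b • a • (t : G) = (b * a) • (t : G)
      rw [mul_smul]
    exact congrArg Subtype.val h
  let S' : Subgroup G := (((gen A G).comap (T.subtype.comp ν))).map T.subtype
  have hmemS : ∀ {t : G} (ht : t ∈ T), (ν ⟨t, ht⟩ : G) ∈ gen A G → t ∈ S' := fun {t} ht h =>
    ⟨⟨t, ht⟩, h, rfl⟩
  -- the elements `g` with all `[m, g]` good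
  let J : Set G := {g | ∀ m ∈ M, ⁅m, g⁆ ∈ S'}
  have hJmul : ∀ g ∈ J, ∀ h ∈ J, g * h ∈ J := by
    intro g hg h hh m hm
    have ht : ⁅m, h⁆ ∈ M := hTM (commutator_mem_commutator hm (mem_top h))
    rw [show ⁅m, g * h⁆ = ⁅m, g⁆ * (⁅m, h⁆ * ⁅⁅m, h⁆⁻¹, g⁆) by
      simp only [commutatorElement_def]; group]
    exact mul_mem (hg m hm) (mul_mem (hh m hm) (hg _ (inv_mem ht)))
  have hJ1 : (1 : G) ∈ J := fun m _ => by simp
  have hJU : ∀ H : Subgroup A, Cyc H → ∀ u ∈ br (⊤ : Subgroup A) (fixH G H), u ∈ J := by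
    intro H hH u hu m hm
    have huT : ∀ x ∈ M, ⁅x, u⁆ ∈ T := fun x hx => commutator_mem_commutator hx (mem_top u)
    let φ : M →* T := MonoidHom.mk' (fun x => ⟨⁅(x : G), u⁆, huT x x.2⟩) fun x y => by
      refine Subtype.ext ?_
      show ⁅(x : G) * y, u⁆ = ⁅(x : G), u⁆ * ⁅(y : G), u⁆
      rw [show ⁅(x : G) * y, u⁆ = (x : G) * ⁅(y : G), u⁆ * (x : G)⁻¹ * ⁅(x : G), u⁆ by
        simp only [commutatorElement_def]; group,
        ← hT _ (huT y y.2) x x.2, mul_inv_cancel_right]
      exact hT _ (huT y y.2) _ (hTM (huT x x.2))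
    obtain ⟨n, hn, hc⟩ := exists_fixed_br hcop H hM hm
    obtain ⟨hcM, hcF⟩ := mem_inf.1 hc
    have hnM : n ∈ M := br_le hM hn
    have hker : ν (φ ⟨n, hnM⟩) = 1 := by
      have hle : br H M ≤ ((ν.comp φ).ker).map M.subtype := by
        rw [br, closure_le]
        rintro _ ⟨b, hb, y, hy, rfl⟩
        refine ⟨⟨y, hy⟩⁻¹ * ⟨b • y, hM b y hy⟩, ?_, rfl⟩
        show ν (φ (⟨y, hy⟩⁻¹ * ⟨b • y, hM b y hy⟩)) = 1
        have hbu : b • u = u :=
          (br_le (fun c x hx => smul_mem_fixH H hx c) hu : u ∈ fixH G H) b hb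
        have hφ : φ ⟨b • y, hM b y hy⟩ = act b (φ ⟨y, hy⟩) := Subtype.ext (by
          show ⁅b • y, u⁆ = b • ⁅y, u⁆
          have := map_commutatorElement (MulDistribMulAction.toMonoidHom G b) y u
          simp only [MulDistribMulAction.toMonoidHom_apply, hbu] at this
          exact this.symm)
        rw [map_mul, map_mul, map_inv, map_inv, hφ, ν_act, inv_mul_cancel]
      obtain ⟨x, hx, hxe⟩ := hle hn
      rw [← show x = ⟨n, hnM⟩ from Subtype.ext hxe]
      exact hx
    refine hmemS (huT m hm) ?_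
    show (ν (φ ⟨m, hm⟩) : G) ∈ gen A G
    have hdec : (⟨m, hm⟩ : M) = ⟨m * n, hcM⟩ * (⟨n, hnM⟩)⁻¹ :=
      Subtype.ext (by simp [mul_inv_cancel_right])
    rw [hdec, map_mul φ, map_mul ν, map_inv φ, map_inv ν, hker, inv_one, mul_one]
    refine mem_iSup_of_mem H (mem_iSup_of_mem hH (mem_inf.2 ⟨ν_fix _, ?_⟩))
    have hcu : ⁅m * n, u⁆ ∈ br (⊤ : Subgroup A) (fixH G H) := by
      rw [commutatorElement_def]
      refine mul_mem ?_ (inv_mem hu)
      have := br_conj_mem (inv_mem hcF) hu
      simpa using this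
    let P : Subgroup T := (br (⊤ : Subgroup A) (fixH G H)).comap T.subtype
    show ∏ a, act a (φ ⟨m * n, hcM⟩) ∈ P
    exact Subgroup.prod_mem P fun a _ => br_invariant (fun c x hx => smul_mem_fixH H hx c) a hcu
  have hJtop : ∀ g : G, g ∈ J := by
    intro g
    have hg : g ∈ ⨆ H ∈ {H : Subgroup A | Cyc H}, br (⊤ : Subgroup A) (fixH G H) := by
      rw [iSup_br_fixH_eq_top hcop hG]; exact mem_top g
    have hle : (⨆ H ∈ {H : Subgroup A | Cyc H}, br (⊤ : Subgroup A) (fixH G H)) ≤
        closure (⋃ H ∈ {H : Subgroup A | Cyc H},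
          ((br (⊤ : Subgroup A) (fixH G H) : Subgroup G) : Set G)) :=
      iSup₂_le fun H hH x hx => subset_closure (Set.mem_biUnion hH hx)
    have h := hle hg
    rw [← Subgroup.mem_toSubmonoid, Subgroup.closure_toSubmonoid_of_finite] at h
    clear hg
    induction h using Submonoid.closure_induction with
    | mem x hx =>
      obtain ⟨H, hH, hxH⟩ := Set.mem_iUnion₂.1 hx
      exact hJU H hH x hxH
    | one => exact hJ1
    | mul a b _ _ ha hb => exact hJmul a ha b hb
  have hTS : T ≤ S' := commutator_le.2 fun m hm g _ => hJtop g m hm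
  intro x hx
  obtain ⟨hxf, hxT⟩ := mem_inf.1 hx
  obtain ⟨t, ht, he⟩ := hTS hxT
  have hν : ν t = t ^ Nat.card A := by
    show ∏ a, act a t = _
    rw [Finset.prod_congr rfl fun a _ => show act a t = t from Subtype.ext (by
      show a • (t : G) = (t : G)
      exact (show (t : G) = x from he) ▸ hxf a (mem_top a)), Finset.prod_const, Finset.card_univ,
      Nat.card_eq_fintype_card]
  have hpow : x ^ Nat.card A ∈ gen A G := by
    have h : ((ν t : T) : G) ∈ gen A G := ht
    rw [hν] at h
    rw [← show (t : G) = x from he]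
    simpa using h
  obtain ⟨k, hk⟩ := exists_pow_eq_self_of_coprime
    ((hcop.coprime_dvd_right (orderOf_dvd_natCard x)) : (Nat.card A).Coprime (orderOf x))
  exact hk ▸ pow_mem hpow k

/-- The induced action on an invariant subgroup. -/
@[reducible]
def subAct (W : Subgroup G) (hW : ∀ a : A, ∀ x ∈ W, a • x ∈ W) : MulDistribMulAction A W where
  smul a x := ⟨a • (x : G), hW a x x.2⟩
  one_smul x := Subtype.ext (one_smul A (x : G))
  mul_smul a b x := Subtype.ext (mul_smul a b (x : G))
  smul_mul a x y := Subtype.ext (smul_mul' a (x : G) y)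
  smul_one a := Subtype.ext (smul_one a)

/-- The induced action on a quotient. -/
@[reducible]
def quotAct (N : Subgroup G) [N.Normal] (hN : ∀ a : A, ∀ x ∈ N, a • x ∈ N) :
    MulDistribMulAction A (G ⧸ N) where
  smul a := QuotientGroup.map N N (MulDistribMulAction.toMulAut A G a).toMonoidHom
    (fun x hx => hN a x hx)
  one_smul x := QuotientGroup.induction_on x fun g => congrArg (QuotientGroup.mk' N) (one_smul A g)
  mul_smul a b x := QuotientGroup.induction_on x fun g =>
    congrArg (QuotientGroup.mk' N) (mul_smul a b g)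
  smul_mul a x y := map_mul (QuotientGroup.map N N
    (MulDistribMulAction.toMulAut A G a).toMonoidHom (fun x hx => hN a x hx)) x y
  smul_one a := map_one (QuotientGroup.map N N
    (MulDistribMulAction.toMulAut A G a).toMonoidHom (fun x hx => hN a x hx))

theorem exists_minimal_noncentral [Group.IsSolvable G] (hnc : ¬ ∀ x y : G, x * y = y * x) :
    ∃ M : Subgroup G, Minimal
      (fun K : Subgroup G => K.Normal ∧ (∀ a : A, ∀ x ∈ K, a • x ∈ K) ∧ ¬ K ≤ center G) M := by
  obtain ⟨M, hM⟩ := Set.Finite.exists_minimal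
    (Set.toFinite {K : Subgroup G | K.Normal ∧ (∀ a : A, ∀ x ∈ K, a • x ∈ K) ∧ ¬ K ≤ center G})
    ⟨⊤, inferInstance, top_invariant, fun h => hnc fun x y =>
      (Subgroup.mem_center_iff.1 (h (mem_top y)) x)⟩
  exact ⟨M, hM⟩

/-- The generation lemma. -/
theorem fixed_le_gen : ∀ (n : ℕ) (X : Type v) [Group X] [Finite X] [MulDistribMulAction A X],
    Nat.card X = n → Group.IsSolvable X → (Nat.card A).Coprime (Nat.card X) →
    br (⊤ : Subgroup A) (⊤ : Subgroup X) = ⊤ → fixH X (⊤ : Subgroup A) ≤ gen A X := by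
  intro n
  induction n using Nat.strong_induction_on with
  | _ n ih =>
  intro X _ _ _ hn hsolv hcop hX
  haveI := hsolv
  haveI : Fintype A := Fintype.ofFinite A
  by_cases hcomm : ∀ x y : X, x * y = y * x
  · letI : CommGroup X := { ‹Group X› with mul_comm := hcomm }
    let N : X →* X := MonoidHom.mk' (fun x => ∏ a : A, a • x) fun x y => by
      simp only [smul_mul', Finset.prod_mul_distrib]
    have hN : (⊤ : Subgroup X) ≤ N.ker := by
      rw [← hX, br, closure_le]
      rintro _ ⟨b, _, x, _, rfl⟩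
      show N (x⁻¹ * b • x) = 1
      have : N (b • x) = N x := Fintype.prod_equiv (Equiv.mulRight b) _ _ fun a => by
        simp [mul_smul]
      rw [map_mul, map_inv, this, inv_mul_cancel]
    intro x hx
    have h1 : x ^ Nat.card A = 1 := by
      rw [Nat.card_eq_fintype_card, ← Finset.card_univ, ← Finset.prod_const,
        ← Finset.prod_congr rfl fun a (_ : a ∈ Finset.univ) => hx a (mem_top a)]
      exact hN (mem_top x)
    rw [orderOf_eq_one_iff.1 (Nat.eq_one_of_dvd_coprimes hcop (orderOf_dvd_of_pow_eq_one h1)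
      (orderOf_dvd_natCard x))]
    exact one_mem _
  obtain ⟨M, ⟨hMn, hM, hMnc⟩, hMmin⟩ := exists_minimal_noncentral (A := A) hcomm
  haveI := hMn
  have hsmall : ∀ K : Subgroup X, K.Normal → (∀ a : A, ∀ x ∈ K, a • x ∈ K) → K ≤ M → K ≠ M →
      K ≤ center X := fun K hKn hK hle hne => by
    by_contra h
    exact hne (le_antisymm hle (hMmin ⟨hKn, hK, h⟩ hle))
  -- reduction: a normal subgroup with good fixed points
  suffices h : ∃ V : Subgroup X, ∃ _ : V.Normal, V ≠ ⊥ ∧ (∀ a : A, ∀ x ∈ V, a • x ∈ V) ∧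
      ((fixH X (⊤ : Subgroup A) ≤ gen A X ⊔ (fixH X (⊤ : Subgroup A) ⊓ V)) →
        fixH X (⊤ : Subgroup A) ⊓ V ≤ gen A X) by
    obtain ⟨V, _, hVne, hV, hVgen⟩ := h
    suffices hle : fixH X (⊤ : Subgroup A) ≤ gen A X ⊔ (fixH X (⊤ : Subgroup A) ⊓ V) from
      hle.trans (sup_le le_rfl (hVgen hle))
    letI := quotAct V hV
    let q := QuotientGroup.mk' V
    have hq : Function.Surjective q := QuotientGroup.mk'_surjective V
    have hlt : Nat.card (X ⧸ V) < n := by
      rw [← hn, Subgroup.card_eq_card_quotient_mul_card_subgroup V]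
      exact lt_mul_of_one_lt_right Nat.card_pos ((Subgroup.one_lt_card_iff_ne_bot V).2 hVne)
    have hbrq : br (⊤ : Subgroup A) (⊤ : Subgroup (X ⧸ V)) = ⊤ := by
      have hle : (br (⊤ : Subgroup A) (⊤ : Subgroup X)).map q ≤
          br (⊤ : Subgroup A) (⊤ : Subgroup (X ⧸ V)) := by
        rw [br, MonoidHom.map_closure, closure_le]
        rintro _ ⟨_, ⟨b, hb, x, _, rfl⟩, rfl⟩
        exact mem_br (x := q x) hb (mem_top _)
      rw [hX, map_top_of_surjective q hq] at hle
      exact top_le_iff.1 hle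
    have hrec := ih _ hlt (X ⧸ V) rfl (Group.isSolvable_of_surjective hq)
      (hcop.coprime_dvd_right (Subgroup.card_quotient_dvd_card V)) hbrq
    have hfix : ∀ H : Subgroup A, fixH (X ⧸ V) H ≤ (fixH X H).map q := by
      intro H y hy
      obtain ⟨g, rfl⟩ := hq y
      obtain ⟨v, hv, hf⟩ := exists_fixed_in (H := H) (N := V) hcop (fun a _ x hx => hV a x hx)
        (g := g) fun a ha => (QuotientGroup.eq (s := V)).1 (hy a ha).symm
      exact ⟨g * v, hf, QuotientGroup.eq.2 (by simpa using hv)⟩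
    have hgenmap : gen A (X ⧸ V) ≤ (gen A X).map q := by
      refine iSup₂_le fun H hH y hy => ?_
      obtain ⟨hyf, hyb⟩ := mem_inf.1 hy
      have hle : br (⊤ : Subgroup A) (fixH (X ⧸ V) H) ≤
          (br (⊤ : Subgroup A) (fixH X H)).map q := by
        rw [br, closure_le]
        rintro _ ⟨b, hb, x, hx, rfl⟩
        obtain ⟨g, hg, rfl⟩ := hfix H hx
        exact ⟨g⁻¹ * b • g, mem_br hb hg, rfl⟩
      obtain ⟨g, hg, rfl⟩ := hle hyb
      have hB : ∀ a : A, ∀ x ∈ br (⊤ : Subgroup A) (fixH X H),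
          a • x ∈ br (⊤ : Subgroup A) (fixH X H) :=
        fun a x hx => br_invariant (fun c z hz => smul_mem_fixH H hz c) a hx
      obtain ⟨v, hv, hf⟩ := exists_fixed_in (H := (⊤ : Subgroup A))
        (N := V ⊓ br (⊤ : Subgroup A) (fixH X H)) hcop
        (fun a _ x hx => mem_inf.2 ⟨hV a x (mem_inf.1 hx).1, hB a x (mem_inf.1 hx).2⟩) (g := g)
        fun a ha => mem_inf.2 ⟨(QuotientGroup.eq (s := V)).1 (hyf a ha).symm,
          mul_mem (inv_mem hg) (hB a g hg)⟩
      exact ⟨g * v, mem_iSup_of_mem H (mem_iSup_of_mem hH (mem_inf.2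
        ⟨hf, mul_mem hg (mem_inf.1 hv).2⟩)), QuotientGroup.eq.2 (by simpa using (mem_inf.1 hv).1)⟩
    intro x hx
    obtain ⟨e, he, hex⟩ := hgenmap (hrec (show q x ∈ fixH (X ⧸ V) (⊤ : Subgroup A) from
      fun a ha => congrArg q (hx a ha)))
    have hef : e ∈ fixH X (⊤ : Subgroup A) :=
      (iSup₂_le fun H _ => inf_le_left : gen A X ≤ fixH X (⊤ : Subgroup A)) he
    have : e⁻¹ * x ∈ V := (QuotientGroup.eq (s := V)).1 hex
    rw [show x = e * (e⁻¹ * x) by group]
    exact mul_mem (mem_sup_left he)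
      (mem_sup_right (mem_inf.2 ⟨mul_mem (inv_mem hef) hx, this⟩))
  -- the choice of `V`
  by_cases hlin : ⁅M, (⊤ : Subgroup X)⁆ = M ∧ ⁅M, M⁆ ≠ ⊥
  · obtain ⟨hMM, hder⟩ := hlin
    haveI hMntv : Nontrivial M := (Subgroup.nontrivial_iff_ne_bot M).2 fun h =>
      hMnc (h ▸ bot_le)
    have hMtop : M ≠ ⊤ := by
      intro h
      subst h
      haveI : Nontrivial X := Subgroup.topEquiv.symm.toEquiv.nontrivial
      exact (Group.IsSolvable.commutator_lt_top_of_nontrivial X).ne hMM
    have hVlt : ⁅M, M⁆ ≠ M := by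
      intro h
      apply (Group.IsSolvable.commutator_lt_top_of_nontrivial M).ne
      apply Subgroup.map_injective M.subtype_injective
      rw [map_subtype_commutator, ← MonoidHom.range_eq_map, range_subtype, h]
    have hVc : ⁅M, M⁆ ≤ center X :=
      hsmall _ inferInstance (fun a x hx => invariant_commutator hM hM a hx) (commutator_le_self M)
        hVlt
    refine ⟨⁅M, M⁆, inferInstance, hder, fun a x hx => invariant_commutator hM hM a hx,
      fun hind => ?_⟩
    set W := br (⊤ : Subgroup A) M with hW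
    have hWM : W ≤ M := br_le hM
    letI := subAct W (fun a x hx => br_invariant hM a hx)
    have hWlt : Nat.card W < n := by
      rw [← hn]
      refine lt_of_le_of_lt (Subgroup.card_le_of_le hWM) ?_
      exact lt_of_le_of_ne (Nat.le_of_dvd Nat.card_pos (card_subgroup_dvd_card M))
        fun h => hMtop (Subgroup.eq_top_of_card_eq M h)
    have hWW : br (⊤ : Subgroup A) (⊤ : Subgroup W) = ⊤ := by
      apply Subgroup.map_injective W.subtype_injective
      rw [← MonoidHom.range_eq_map, range_subtype, br, MonoidHom.map_closure]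
      refine Eq.trans ?_ (br_br hcop hM)
      show Subgroup.closure _ = Subgroup.closure _
      congr 1
      ext y
      constructor
      · rintro ⟨_, ⟨a, ha, x, -, rfl⟩, rfl⟩
        exact ⟨a, ha, x, x.2, rfl⟩
      · rintro ⟨a, ha, x, hx, rfl⟩
        exact ⟨_, ⟨a, ha, ⟨x, hx⟩, mem_top _, rfl⟩, rfl⟩
    have hrecW := ih _ hWlt W rfl inferInstance
      (hcop.coprime_dvd_right (card_subgroup_dvd_card W)) hWW
    have hgenW : (gen A W).map W.subtype ≤ gen A X := by
      rw [gen]
      simp only [Subgroup.map_iSup]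
      refine iSup₂_le fun H hH => ?_
      rintro _ ⟨y, hy, rfl⟩
      obtain ⟨hyf, hyb⟩ := mem_inf.1 hy
      refine mem_iSup_of_mem H (mem_iSup_of_mem hH (mem_inf.2
        ⟨fun a ha => congrArg Subtype.val (hyf a ha), ?_⟩))
      have hle : (br (⊤ : Subgroup A) (fixH W H)).map W.subtype ≤
          br (⊤ : Subgroup A) (fixH X H) := by
        rw [br, MonoidHom.map_closure, closure_le]
        rintro _ ⟨_, ⟨a, ha, x, hx, rfl⟩, rfl⟩
        exact mem_br ha (x := (x : X)) fun b hb => congrArg Subtype.val (hx b hb)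
      exact hle ⟨y, hyb, rfl⟩
    -- `C = C_M(A)`; its commutators are good
    set C := M ⊓ fixH X (⊤ : Subgroup A) with hC
    set K := ⁅C, C⁆ with hK
    have hKgen : K ≤ gen A X := by
      refine commutator_le.2 fun c hc c' hc' => ?_
      have hdec : ∀ c ∈ C, ∃ e ∈ gen A X, ∃ z ∈ center X, c = e * z := by
        intro c hc
        have h := hind (mem_inf.1 hc).2
        rw [sup_eq_closure] at h
        clear hc
        induction h using closure_induction with
        | mem y hy =>
          rcases hy with hy | hy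
          · exact ⟨y, hy, 1, one_mem _, (mul_one y).symm⟩
          · exact ⟨1, one_mem _, y, hVc (mem_inf.1 hy).2, (one_mul y).symm⟩
        | one => exact ⟨1, one_mem _, 1, one_mem _, (mul_one 1).symm⟩
        | mul y y' _ _ h1 h2 =>
          obtain ⟨e, he, z, hz, rfl⟩ := h1
          obtain ⟨e', he', z', hz', rfl⟩ := h2
          refine ⟨e * e', mul_mem he he', z * z', mul_mem hz hz', ?_⟩
          calc e * z * (e' * z') = e * (z * e') * z' := by group
            _ = e * (e' * z) * z' := by rw [(Subgroup.mem_center_iff.1 hz e').symm]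
            _ = e * e' * (z * z') := by group
        | inv y _ h1 =>
          obtain ⟨e, he, z, hz, rfl⟩ := h1
          refine ⟨e⁻¹, inv_mem he, z⁻¹, inv_mem hz, ?_⟩
          rw [mul_inv_rev]
          exact (Subgroup.mem_center_iff.1 (inv_mem hz) e⁻¹).symm
      obtain ⟨e, he, z, hz, rfl⟩ := hdec c hc
      obtain ⟨e', he', z', hz', rfl⟩ := hdec c' hc'
      have h : ⁅e * z, e' * z'⁆ = ⁅e, e'⁆ := by
        have h1 := Subgroup.mem_center_iff.1 hz
        have h2 := Subgroup.mem_center_iff.1 hz'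
        simp only [commutatorElement_def, mul_inv_rev]
        calc e * z * (e' * z') * (z⁻¹ * e⁻¹) * (z'⁻¹ * e'⁻¹)
            = e * (z * (e' * z')) * z⁻¹ * (e⁻¹ * z'⁻¹) * e'⁻¹ := by group
          _ = e * ((e' * z') * z) * z⁻¹ * (e⁻¹ * z'⁻¹) * e'⁻¹ := by rw [h1]
          _ = e * e' * ((z' * e⁻¹) * z'⁻¹) * e'⁻¹ := by group
          _ = e * e' * ((e⁻¹ * z') * z'⁻¹) * e'⁻¹ := by rw [h2]
          _ = e * e' * e⁻¹ * e'⁻¹ := by group
      rw [h, commutatorElement_def]
      exact mul_mem (mul_mem (mul_mem he he') (inv_mem he)) (inv_mem he')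
    haveI hWn : (W.subgroupOf M).Normal := by
      refine (Subgroup.normal_subgroupOf_iff_le_normalizer hWM).2 ?_
      refine le_normalizer_iff.2 fun w hw k hk => ?_
      have := br_conj_mem (inv_mem hw) hk
      simpa using this
    have hV : ∀ v ∈ ⁅M, M⁆, ∃ k ∈ K, k⁻¹ * v ∈ W := by
      let p := QuotientGroup.mk' (W.subgroupOf M)
      have hgood : commutator M ≤ ((K.subgroupOf M).map p).comap p := by
        refine commutator_le.2 fun x _ y _ => ?_
        have hx : ∀ x : M, ∃ c : M, (c : X) ∈ C ∧ p x = p c := by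
          intro x
          obtain ⟨w, hw, hc⟩ := exists_fixed_br hcop (⊤ : Subgroup A) hM x.2
          exact ⟨⟨x * w, (mem_inf.1 hc).1⟩, hc, QuotientGroup.eq.2 (by
            show (x : X)⁻¹ * ((x : X) * w) ∈ W
            rwa [inv_mul_cancel_left])⟩
        obtain ⟨c, hc, hcx⟩ := hx x
        obtain ⟨c', hc', hcy⟩ := hx y
        refine ⟨⁅c, c'⁆, commutator_mem_commutator hc hc', ?_⟩
        rw [map_commutatorElement, map_commutatorElement, hcx, hcy]
      intro v hv
      rw [← map_subtype_commutator] at hv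
      obtain ⟨x, hx, rfl⟩ := hv
      obtain ⟨k, hk, hkx⟩ := hgood hx
      exact ⟨(k : X), hk, (QuotientGroup.eq (s := W.subgroupOf M)).1 hkx⟩
    intro v hv
    obtain ⟨hvf, hvV⟩ := mem_inf.1 hv
    obtain ⟨k, hk, hkv⟩ := hV v hvV
    have hkf : k ∈ fixH X (⊤ : Subgroup A) :=
      (iSup₂_le fun H _ => inf_le_left : gen A X ≤ fixH X (⊤ : Subgroup A)) (hKgen hk)
    rw [show v = k * (k⁻¹ * v) by group]
    exact mul_mem (hKgen hk) (hgenW ⟨⟨_, hkv⟩, hrecW (fun a ha => Subtype.ext
      (mul_mem (inv_mem hkf) hvf a ha)), rfl⟩)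
  · refine ⟨⁅M, (⊤ : Subgroup X)⁆, inferInstance, ?_,
      fun a x hx => invariant_commutator hM top_invariant a hx,
      fun _ => fixed_commutator_le_gen hcop hX hM ?_⟩
    · intro h
      refine hMnc fun m hm => Subgroup.mem_center_iff.2 fun g => ?_
      have := h ▸ commutator_mem_commutator hm (mem_top g)
      exact (commutatorElement_eq_one_iff_mul_comm.1 (Subgroup.mem_bot.1 this)).symm
    · intro t ht m hm
      by_cases hMM : ⁅M, (⊤ : Subgroup X)⁆ = M
      · have hder : ⁅M, M⁆ = ⊥ := not_not.1 fun h => hlin ⟨hMM, h⟩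
        exact commutatorElement_eq_one_iff_mul_comm.1 (Subgroup.mem_bot.1
          (hder ▸ commutator_mem_commutator (commutator_le_left M ⊤ ht) hm))
      · exact (Subgroup.mem_center_iff.1 (hsmall _ inferInstance
          (fun a x hx => invariant_commutator hM top_invariant a hx) (commutator_le_left M ⊤) hMM
          ht) m).symm

end Cfsg.Agent.Lib.FTDeps.Goldschmidt.Core
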